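import Cfsg.Agent.H306.SD.JData
import Cfsg.Agent.H417.JThreeDeg
import Cfsg.Agent.H109.S8.AutDeg
import Cfsg.Agent.S2067

/-!
# The 21 degrees of `J₃` (helper306)

* `rows_eq`: the eight rational columns of the character table (as a multiset of 21 rows);
* `card_dg`: the number of irreducible characters of each degree;
* `cd_eq`: the set of degrees;
* `cd_aut_sub`: a superset of the degrees of `Aut J₃`.
-/

set_option autoImplicit false
set_option maxRecDepth 100000

namespace Cfsg.Agent.H306.SD.J

open Cfsg Cfsg.Agent.Characters.Core Cfsg.Agent.J3Type.CharComb Cfsg.Agent.H417.JThreeLP Cfsg.Agent.M23Order.Base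

section hyp

variable {ι : Type*} [Fintype ι] {V : ι → Fin 8 → ℤ}

theorem st0_eq (h : Hyp V) : sumSt V Finset.univ = st0 := by
  simp only [sumSt, st0, St.mk.injEq]
  refine ⟨(h.orth 0 0).trans (by decide), (h.orth 0 1).trans (by decide), (h.orth 0 2).trans (by decide), (h.orth 0 3).trans (by decide), (h.orth 0 4).trans (by decide), (h.orth 0 5).trans (by decide), (h.orth 0 6).trans (by decide), (h.orth 0 7).trans (by decide), (h.orth 1 1).trans (by decide), (h.orth 1 2).trans (by decide), (h.orth 1 3).trans (by decide), (h.orth 1 4).trans (by decide), (h.orth 1 5).trans (by decide), (h.orth 1 6).trans (by decide), (h.orth 1 7).trans (by decide), (h.orth 2 2).trans (by decide), (h.orth 2 3).trans (by decide), (h.orth 2 4).trans (by decide), (h.orth 2 5).trans (by decide), (h.orth 2 6).trans (by decide), (h.orth 2 7).trans (by decide), (h.orth 3 3).trans (by decide), (h.orth 3 4).trans (by decide), (h.orth 3 5).trans (by decide), (h.orth 3 6).trans (by decide), (h.orth 3 7).trans (by decide), (h.orth 4 4).trans (by decide),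 (h.orth 4 5).trans (by decide), (h.orth 4 6).trans (by decide), (h.orth 4 7).trans (by decide), (h.orth 5 5).trans (by decide), (h.orth 5 6).trans (by decide), (h.orth 5 7).trans (by decide), (h.orth 6 6).trans (by decide), (h.orth 6 7).trans (by decide), (h.orth 7 7).trans (by decide), h.n1, h.n2, h.n3, h.n4, h.n5⟩

theorem mem_ops (h : Hyp V) (χ : ι) : ∃ l ∈ rowsOf ops, V χ = fn l := by
  obtain ⟨l, hl, hv⟩ := h.mem χ
  refine ⟨l, ?_, hv⟩
  have h1 : ∀ l ∈ vecs, l.getD 0 0 ≤ 3078 → l ∈ rowsOf ops := by decide +kernel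
  refine h1 l hl ?_
  have h2 := (H417.JThreeLP.max_degree h).2 χ
  rw [hv] at h2
  exact h2

/-- **the rows of the character table (eight rational columns)** -/
theorem rows_eq (h : Hyp V) : (Finset.univ : Finset ι).val.map V = ((sol.map fn : List (Fin 8 → ℤ)) : Multiset _) := by
  classical
  have h1 := srch_sound V (sol := sol) ops wf_ops Finset.univ [] (fun χ _ => mem_ops h χ)
    (by rw [st0_eq h]; exact srch_ops)
  rw [← h1]
  simp

end hyp

/-- the degrees of the 21 irreducible characters -/
def degs : List ℕ := [1, 85, 85, 323, 323, 324, 646, 646, 816, 1140, 1215, 1215, 1615, 1920, 1920, 1920, 1938, 1938,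
  2432, 2754, 3078]

universe u

variable {K : Type u} [Group K]

/-- **the degrees of `J₃` with multiplicities** -/
theorem map_dg [Finite K] [Fintype (IrrCharacter K)] (h : Spor.IsoJ3 K) :
    (Finset.univ : Finset (IrrCharacter K)).val.map (fun χ => dg χ) = (degs : Multiset ℕ) := by
  classical
  obtain ⟨V, hV, hH⟩ := H417.JThreeDeg.hyp h
  have h1 := congrArg (Multiset.map fun v : Fin 8 → ℤ => (v 0).toNat) (rows_eq hH)
  rw [Multiset.map_map] at h1
  have h2 : (Finset.univ : Finset (IrrCharacter K)).val.map (fun χ => dg χ) =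
      (Finset.univ : Finset (IrrCharacter K)).val.map ((fun v : Fin 8 → ℤ => (v 0).toNat) ∘ V) := by
    refine Multiset.map_congr rfl fun χ _ => ?_
    simp [hV]
  rw [h2, h1, Multiset.map_coe, Multiset.coe_eq_coe]
  decide +kernel

/-- **the number of irreducible characters of `J₃` of degree `d`** -/
theorem card_dg [Finite K] [Fintype (IrrCharacter K)] (h : Spor.IsoJ3 K) (d : ℕ) :
    (Finset.univ.filter fun χ : IrrCharacter K => dg χ = d).card = degs.count d := by
  classical
  rw [← Multiset.coe_count, ← map_dg h, Multiset.count_map, Finset.card_def, Finset.filter_val]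
  congr 1
  exact Multiset.filter_congr fun χ _ => eq_comm

/-- **the set of the degrees of `J₃`** -/
theorem cd_eq [Finite K] (h : Spor.IsoJ3 K) : charDegrees K = {d | d ∈ degs} := by
  classical
  have := finite_irr (G := K)
  let _ := Fintype.ofFinite (IrrCharacter K)
  ext d
  rw [Set.mem_ofPred_eq, ← List.count_pos_iff, ← card_dg h, Finset.card_pos]
  constructor
  · rintro ⟨χ, hχ⟩
    exact ⟨χ, Finset.mem_filter.2 ⟨Finset.mem_univ _, hχ⟩⟩
  · rintro ⟨χ, hχ⟩
    exact ⟨χ, (Finset.mem_filter.1 hχ).2⟩

theorem finite_of (h : Spor.IsoJ3 K) : Finite K :=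
  Nat.finite_of_card_ne_zero (by rw [(H898.J3Cent.base h).2.1]; norm_num)

/-- **the degrees of `J₃` as an explicit set** -/
theorem cd_set (h : Spor.IsoJ3 K) :
    charDegrees K = ({1, 85, 323, 324, 646, 816, 1140, 1215, 1615, 1920, 1938, 2432, 2754, 3078} : Set ℕ) := by
  have := finite_of h
  rw [cd_eq h]
  ext d
  simp only [Set.mem_ofPred_eq, degs, List.mem_cons, List.not_mem_nil, or_false, Set.mem_insert_iff, Set.mem_singleton_iff]
  tauto

/-- two different characters of the same degree -/
theorem deg_pair (h : Spor.IsoJ3 K) {χ χ' : IrrCharacter K} (hne : χ ≠ χ') {d : ℕ} (h1 : (χ : K → ℂ) 1 = d)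
    (h2 : (χ' : K → ℂ) 1 = d) : d ∈ [85, 323, 646, 1215, 1920, 1938] := by
  classical
  have := finite_of h
  have := finite_irr (G := K)
  let _ := Fintype.ofFinite (IrrCharacter K)
  have h3 : 1 < (Finset.univ.filter fun χ : IrrCharacter K => dg χ = d).card := by
    rw [Finset.one_lt_card]
    exact ⟨χ, by simp [dg_of_eq h1], χ', by simp [dg_of_eq h2], hne⟩
  rw [card_dg h] at h3
  have h4 : d ∈ degs := List.count_pos_iff.1 (by omega)
  have key : ∀ d ∈ degs, 1 < degs.count d → d ∈ [85, 323, 646, 1215, 1920, 1938] := by decide +kernel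
  exact key d h4 h3

theorem index_inn (h : Spor.IsoJ3 K) : (MulAut.conj : K →* MulAut K).range.index = 2 := by
  rw [← H55.OutGen.card_out_eq_index]
  obtain ⟨F, _, _, ω, hF, hω, ⟨e⟩⟩ := h
  rw [H55.OutGen.card_out_congr e, S2067.result hF ω hω]

theorem center_eq (h : Spor.IsoJ3 K) : Subgroup.center K = ⊥ := by
  have hs : IsSimpleGroup K := (H898.J3Cent.base h).1
  have := finite_of h
  rcases (inferInstance : (Subgroup.center K).Normal).eq_bot_or_eq_top with h1 | h1
  · exact h1
  · exfalso
    have hcomm : ∀ a b : K, a * b = b * a := fun a b => by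
      have : b ∈ Subgroup.center K := by rw [h1]; trivial
      exact Subgroup.mem_center_iff.1 this a
    let _ : CommGroup K := { (inferInstance : Group K) with mul_comm := hcomm }
    have h1 : (Nat.card K).Prime := IsSimpleGroup.prime_card
    rw [(H898.J3Cent.base h).2.1] at h1
    norm_num at h1

/-- the degrees of `Aut J₃`: a degree of `J₃`, or twice a degree that occurs twice -/
theorem cd_aut (h : Spor.IsoJ3 K) {d : ℕ} (hd : d ∈ charDegrees (MulAut K)) :
    d ∈ charDegrees K ∨ d ∈ [170, 646, 1292, 2430, 3840, 3876] := by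
  have := finite_of h
  rcases H109.S8.deg_aut (center_eq h) (index_inn h) hd with h1 | ⟨χ, χ', f, h3, h4, h5, h6⟩
  · exact Or.inl h1
  · right
    have h7 := deg_pair h h3 h4 h5
    simp only [List.mem_cons, List.not_mem_nil, or_false] at h7 ⊢
    omega

/-- **a superset of the degrees of `J₃` and `Aut J₃`** -/
theorem deg_sub (h : Spor.IsoJ3 K) {D : Set ℕ} (hD : H704.S8.Deg 2 K D) :
    ∀ d ∈ D, d ∈ [1, 85, 170, 323, 324, 646, 816, 1140, 1215, 1292, 1615, 1920, 1938, 2430, 2432, 2754, 3078, 3840,
      3876] := by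
  intro d hd
  have h1 : d ∈ charDegrees K ∨ d ∈ [170, 646, 1292, 2430, 3840, 3876] := by
    rcases hD with rfl | ⟨-, rfl⟩
    · exact Or.inl hd
    · exact cd_aut h hd
  rw [cd_set h] at h1
  simp only [Set.mem_insert_iff, Set.mem_singleton_iff, List.mem_cons, List.not_mem_nil, or_false] at h1 ⊢
  omega

end Cfsg.Agent.H306.SD.J
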