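import Cfsg.Prelude.Def_DegreeGraph
import Cfsg.Agent.S0157
import Cfsg.Agent.M23Order.Base
import Cfsg.Agent.MTwelve.SmallDegree

/-!
# No subgroup of index `n` if `n - 1` is not a sum of nontrivial degrees (helper306)

`rep L n`: `n` is a sum of members of the list `L` with repetitions. `index_rep`: in a finite simple group `G` (not of
prime order) all whose degrees different from `1` are in `L`, every subgroup `T` has `rep L (T.index - 1) = true` (the
permutation character of `G` on the cosets of `T` contains the principal character once).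
-/

set_option autoImplicit false

open scoped ComplexConjugate
open Cfsg Cfsg.Agent.Characters.Core Cfsg.Agent.M23Order.Base MulAction

namespace Cfsg.Agent.H306.SD.Perm

/-- `n` is a sum of members of the list (with repetitions) -/
def rep : List ℕ → ℕ → Bool
  | [], n => Nat.beq n 0
  | d :: L, n => (List.range (n / d + 1)).any fun k => rep L (n - k * d)

theorem rep_sound {ι : Type*} (f m : ι → ℕ) : ∀ (L : List ℕ) (s : Finset ι), (∀ i ∈ s, f i ∈ L) → (∀ d ∈ L, 0 < d) →
    rep L (∑ i ∈ s, m i * f i) = true := by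
  classical
  intro L
  induction L with
  | nil =>
    intro s hs _
    have h0 : s = ∅ := by
      rw [Finset.eq_empty_iff_forall_notMem]
      exact fun i hi => absurd (hs i hi) List.not_mem_nil
    subst h0
    rfl
  | cons d L ih =>
    intro s hs hpos
    have hd : 0 < d := hpos d List.mem_cons_self
    have e1 : ∑ i ∈ s, m i * f i = (∑ i ∈ s.filter (fun i => f i = d), m i) * d + ∑ i ∈ s.filter (fun i => ¬ f i = d), m i * f i := by
      rw [← Finset.sum_filter_add_sum_filter_not s (fun i => f i = d), Finset.sum_mul]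
      congr 1
      exact Finset.sum_congr rfl fun i hi => by rw [(Finset.mem_filter.1 hi).2]
    rw [rep, List.any_eq_true]
    refine ⟨∑ i ∈ s.filter (fun i => f i = d), m i, ?_, ?_⟩
    · rw [List.mem_range, Nat.lt_succ_iff, Nat.le_div_iff_mul_le hd, e1]
      exact Nat.le_add_right _ _
    · rw [e1, Nat.add_sub_cancel_left]
      refine ih _ (fun i hi => ?_) fun d' hd' => hpos d' (List.mem_cons_of_mem _ hd')
      rw [Finset.mem_filter] at hi
      exact (List.mem_cons.1 (hs i hi.1)).resolve_left hi.2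

universe u

variable {G : Type u} [Group G] [Finite G]

/-- the index of a subgroup as a sum of degrees -/
theorem index_sum [Fintype (IrrCharacter G)] (T : Subgroup G) :
    ∃ m : IrrCharacter G → ℕ, m ⟨1, isIrr_one⟩ = 1 ∧ T.index = ∑ χ, m χ * dg χ := by
  classical
  have := Fintype.ofFinite G
  obtain ⟨π, hπ⟩ : ∃ π : G → ℂ, π = fun g : G => (Nat.card (fixedBy (G ⧸ T) g) : ℂ) := ⟨_, rfl⟩
  have hπc : IsCharacter G π := hπ ▸ S0157.isCharacter_fixedBy (G ⧸ T)
  have hπ1 : classInner π 1 = 1 := by
    have := S0157.avg_fixedBy (G := G) (G ⧸ T)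
    rw [S0157.card_orbits_of_pretransitive G (G ⧸ T)] at this
    rw [hπ]
    simpa [classInner] using this
  obtain ⟨m, hm⟩ := exists_nat_comb hπc
  refine ⟨m, ?_, ?_⟩
  · have h1 := classInner_sum_nsmul_irr m (⟨1, isIrr_one⟩ : IrrCharacter G)
    rw [← hm] at h1
    have h2 : ((m ⟨1, isIrr_one⟩ : ℕ) : ℂ) = ((1 : ℕ) : ℂ) := by
      rw [← h1, Nat.cast_one]
      exact hπ1
    exact_mod_cast h2
  · have h2 : fixedBy (G ⧸ T) (1 : G) = Set.univ := by
      ext y; simp
    have h3 : π 1 = (T.index : ℂ) := by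
      rw [hπ]
      change (Nat.card (fixedBy (G ⧸ T) (1 : G)) : ℂ) = _
      rw [h2, Nat.card_univ]
      rfl
    have h4 := congrFun hm 1
    rw [h3, Finset.sum_apply] at h4
    have h5 : (T.index : ℂ) = ((∑ χ, m χ * dg χ : ℕ) : ℂ) := by
      rw [h4]
      push_cast
      refine Finset.sum_congr rfl fun χ _ => ?_
      rw [Pi.smul_apply, dg_eq, nsmul_eq_mul]
    exact_mod_cast h5

/-- **the index minus one is a sum of nontrivial degrees** -/
theorem index_rep [IsSimpleGroup G] (hp : ¬ (Nat.card G).Prime) {L : List ℕ} (hL : ∀ d ∈ charDegrees G, d = 1 ∨ d ∈ L)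
    (hpos : ∀ d ∈ L, 0 < d) (T : Subgroup G) : rep L (T.index - 1) = true := by
  classical
  have := finite_irr (G := G)
  let _ := Fintype.ofFinite (IrrCharacter G)
  obtain ⟨m, hm1, hm⟩ := index_sum T
  have hone : dg (⟨1, isIrr_one⟩ : IrrCharacter G) = 1 := dg_of_eq (by simp)
  have hperf : commutator G = ⊤ := MTwelve.SmallDegree.commutator_eq_top_of_card hp
  rw [hm, ← Finset.add_sum_erase _ _ (Finset.mem_univ (⟨1, isIrr_one⟩ : IrrCharacter G)), hm1, hone, one_mul,
    Nat.add_sub_cancel_left]
  refine rep_sound (fun χ => dg χ) m L _ (fun χ hχ => ?_) hpos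
  refine (hL (dg χ) ⟨χ, rfl⟩).resolve_left fun h1 => ?_
  exact (Finset.mem_erase.1 hχ).1 (Subtype.ext (coe_eq_one_of_dg hperf h1))

end Cfsg.Agent.H306.SD.Perm
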