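import Cfsg.Agent.H306.SD.JDeg
import Cfsg.Agent.H306.SD.Perm
import Cfsg.Agent.H670.S8.FrobEng
import Cfsg.Agent.H50.S8.FrobLem
import Cfsg.Agent.H296.JT.Five
import Cfsg.Agent.H715.Fpr.J3
import Cfsg.Agent.S0000
import Cfsg.Agent.OrdDiv.Table

/-!
# S4908, `J₃`: the row FROB (helper306)

Frobenius subgroup `19 : 3`. Engine of helper670; the six remaining indices are excluded by the permutation character:
`n - 1` is not a sum of nontrivial degrees.
-/

set_option autoImplicit false

namespace Cfsg.Agent.H306.SD.J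

open Cfsg Subgroup Cfsg.Agent.H704.S8 Cfsg.Agent.H940.Eng Cfsg.Agent.H940.Eng.D Cfsg.Agent.H715.Fpr.J3

universe u v

theorem base0 : Base := ⟨Cfsg.Agent.OrdDiv.table.{0}, fun _ _ _ _ => Cfsg.Agent.S0000.result⟩

/-- the superset of the degrees -/
def adm : List ℕ := [1, 85, 170, 323, 324, 646, 816, 1140, 1215, 1292, 1615, 1920, 1938, 2430, 2432, 2754, 3078, 3840, 3876]

theorem index_ne {G : Type} [Group G] (h : Spor.IsoJ3 G) (T : Subgroup G) : T.index ∉ [323, 646, 969, 1292, 1615, 1938] := by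
  have := finite_of h
  have : IsSimpleGroup G := (H898.J3Cent.base h).1
  intro hT
  have h1 := Perm.index_rep (by rw [(H898.J3Cent.base h).2.1]; norm_num)
    (L := [3078, 2754, 2432, 1938, 1920, 1615, 1215, 1140, 816, 646, 324, 323, 85]) (fun d hd => by
      rw [cd_set h] at hd
      simp only [Set.mem_insert_iff, Set.mem_singleton_iff, List.mem_cons, List.not_mem_nil, or_false] at hd ⊢
      omega) (by decide) T
  have key : ∀ n ∈ [323, 646, 969, 1292, 1615, 1938],
      Perm.rep [3078, 2754, 2432, 1938, 1920, 1615, 1215, 1140, 816, 646, 324, 323, 85] (n - 1) = false := by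
    decide +kernel
  rw [key _ hT] at h1
  exact absurd h1 (by decide)

/-- the row over `Type` -/
theorem frob0 {G : Type} [Group G] (h : Spor.IsoJ3 G) {D : Set ℕ} (hD : ∀ d ∈ D, d ∈ adm) : FrobRow 2 D G := by
  have := fin h
  have c := ctx base0 h
  obtain ⟨R, hR⟩ := H940.Eng.exists_card_eq (G := G) (r := 19) (by decide +kernel) (by rw [card h]; decide +kernel)
  obtain ⟨Q, hQ1, hQ2, hQ3, hQ4⟩ := H670.S8.frob_pair (R := R) (r := 19) (q := 3) (by norm_num) (by norm_num) (by norm_num) hR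
    (cn19 h hR).1 (by rw [(cn19 h hR).2]; norm_num)
  refine H670.S8.frobRow_of c (by norm_num) (cls := [[(5, [30])]]) ?_ (adm := adm) (fun _ => hD)
    (ex := [323, 646, 969, 1292, 1615, 1938]) (bd := 0) (r := 19) (e := 3) (P := R) (Q := Q) (by norm_num) hR hQ1 hQ2 hQ3 hQ4 ?_
    (by decide +kernel)
  · intro cl hcl x hx
    simp only [List.mem_singleton] at hcl
    subst hcl
    simp only [List.mem_singleton] at hx
    subst hx
    exact ⟨by norm_num, fun g hg => ⟨30, by simp, by rw [(H296.JT.cn5 h hg).1]⟩⟩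
  · intro T _ _ _ hT
    exact absurd hT (index_ne h T)

/-- **the row FROB of `J₃`** -/
theorem frob {X : Type v} [Group X] (h : Spor.IsoJ3 X) (D : Set ℕ) (hD : Deg 2 X D) : FrobRow 2 D X := by
  have h1 := deg_sub h hD
  obtain ⟨F, i1, i2, ω, hF, hω, ⟨e⟩⟩ := h
  have h0 : Spor.IsoJ3 (Spor.J3 F ω) := ⟨F, i1, i2, ω, hF, hω, ⟨MulEquiv.refl _⟩⟩
  exact H670.S8.FrobRow.congr e.symm (frob0 h0 h1)

/-- **the row CHIEF of `J₃`** -/
theorem chief {X : Type v} [Group X] (h : Spor.IsoJ3 X) (D : Set ℕ) (hD : Deg 2 X D) : Chief.{u} 2 D X := by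
  have := finite_of h
  have : IsSimpleGroup X := (H898.J3Cent.base h).1
  exact H50.S8.chief_of_frobRow (frob h D hD)

end Cfsg.Agent.H306.SD.J
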