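import Cfsg.Agent.H417.JThreeLP

/-!
# The rows of the character table of `J₃` (helper306; partly generated)

`H417.JThreeLP.Hyp` (82 possible rows, orthogonality of eight columns, five counts) has exactly one solution
(`rows_eq`): a depth first search with the inequalities of Cauchy and Schwarz.
-/

set_option autoImplicit false
set_option maxRecDepth 100000

namespace Cfsg.Agent.H306.SD.J

open Cfsg.Agent.J3Type.CharComb Cfsg.Agent.H417.JThreeLP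

/-- the state: the sums of the products of two columns, and the five counts -/
structure St where
  x0 : ℤ
  x1 : ℤ
  x2 : ℤ
  x3 : ℤ
  x4 : ℤ
  x5 : ℤ
  x6 : ℤ
  x7 : ℤ
  x8 : ℤ
  x9 : ℤ
  x10 : ℤ
  x11 : ℤ
  x12 : ℤ
  x13 : ℤ
  x14 : ℤ
  x15 : ℤ
  x16 : ℤ
  x17 : ℤ
  x18 : ℤ
  x19 : ℤ
  x20 : ℤ
  x21 : ℤ
  x22 : ℤ
  x23 : ℤ
  x24 : ℤ
  x25 : ℤ
  x26 : ℤ
  x27 : ℤ
  x28 : ℤ
  x29 : ℤ
  x30 : ℤ
  x31 : ℤ
  x32 : ℤ
  x33 : ℤ
  x34 : ℤ
  x35 : ℤ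
  x36 : ℤ
  x37 : ℤ
  x38 : ℤ
  x39 : ℤ
  x40 : ℤ

/-- difference -/
def St.sub : St → St → St
  | ⟨a0, a1, a2, a3, a4, a5, a6, a7, a8, a9, a10, a11, a12, a13, a14, a15, a16, a17, a18, a19, a20, a21, a22, a23, a24, a25, a26, a27, a28, a29, a30, a31, a32, a33, a34, a35, a36, a37, a38, a39, a40⟩, ⟨b0, b1, b2, b3, b4, b5, b6, b7, b8, b9, b10, b11, b12, b13, b14, b15, b16, b17, b18, b19, b20, b21, b22, b23, b24, b25, b26, b27, b28, b29, b30, b31, b32, b33, b34, b35, b36, b37, b38, b39, b40⟩ =>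
    ⟨a0 - b0, a1 - b1, a2 - b2, a3 - b3, a4 - b4, a5 - b5, a6 - b6, a7 - b7, a8 - b8, a9 - b9, a10 - b10, a11 - b11, a12 - b12, a13 - b13, a14 - b14, a15 - b15, a16 - b16, a17 - b17, a18 - b18, a19 - b19, a20 - b20, a21 - b21, a22 - b22, a23 - b23, a24 - b24, a25 - b25, a26 - b26, a27 - b27, a28 - b28, a29 - b29, a30 - b30, a31 - b31, a32 - b32, a33 - b33, a34 - b34, a35 - b35, a36 - b36, a37 - b37, a38 - b38, a39 - b39, a40 - b40⟩

/-- nonnegative -/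
def nn : ℤ → Bool
  | .ofNat _ => true
  | .negSucc _ => false

theorem nn_of {x : ℤ} (h : 0 ≤ x) : nn x = true := by
  cases x with
  | ofNat n => rfl
  | negSucc n => exact absurd h (by simp)

/-- the state is not a sum of squares -/
def dead : St → Bool
  | ⟨a0, a1, a2, a3, a4, a5, a6, a7, a8, a9, a10, a11, a12, a13, a14, a15, a16, a17, a18, a19, a20, a21, a22, a23, a24, a25, a26, a27, a28, a29, a30, a31, a32, a33, a34, a35, a36, a37, a38, a39, a40⟩ =>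
    !(nn a0 && (nn a8 && (nn a15 && (nn a21 && (nn a26 && (nn a30 && (nn a33 && (nn a35 && (nn a36 && (nn a37 && (nn a38 && (nn a39 && (nn a40 && (nn (a33 * a30 - a31 * a31) && (nn (a35 * a15 - a20 * a20) && (nn (a26 * a15 - a17 * a17) && (nn (a33 * a8 - a13 * a13) && (nn (a30 * a15 - a18 * a18) && (nn (a30 * a21 - a23 * a23) && (nn (a35 * a21 - a25 * a25) && (nn (a33 * a15 - a19 * a19) && (nn (a35 * a26 - a29 * a29) && (nn (a33 * a21 - a24 * a24) && (nn (a35 * a30 - a32 * a32) && (nn (a35 * a8 - a14 * a14))))))))))))))))))))))))))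

/-- a column is zero -/
def colz : ℕ → St → Bool
  | 0, ⟨a0, a1, a2, a3, a4, a5, a6, a7, a8, a9, a10, a11, a12, a13, a14, a15, a16, a17, a18, a19, a20, a21, a22, a23, a24, a25, a26, a27, a28, a29, a30, a31, a32, a33, a34, a35, a36, a37, a38, a39, a40⟩ =>
    a0 == 0 && (a1 == 0 && (a2 == 0 && (a3 == 0 && (a4 == 0 && (a5 == 0 && (a6 == 0 && (a7 == 0)))))))
  | 1, ⟨a0, a1, a2, a3, a4, a5, a6, a7, a8, a9, a10, a11, a12, a13, a14, a15, a16, a17, a18, a19, a20, a21, a22, a23, a24, a25, a26, a27, a28, a29, a30, a31, a32, a33, a34, a35, a36, a37, a38, a39, a40⟩ =>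
    a8 == 0 && (a1 == 0 && (a9 == 0 && (a10 == 0 && (a11 == 0 && (a12 == 0 && (a13 == 0 && (a14 == 0)))))))
  | 2, ⟨a0, a1, a2, a3, a4, a5, a6, a7, a8, a9, a10, a11, a12, a13, a14, a15, a16, a17, a18, a19, a20, a21, a22, a23, a24, a25, a26, a27, a28, a29, a30, a31, a32, a33, a34, a35, a36, a37, a38, a39, a40⟩ =>
    a15 == 0 && (a2 == 0 && (a9 == 0 && (a16 == 0 && (a17 == 0 && (a18 == 0 && (a19 == 0 && (a20 == 0)))))))
  | 3, ⟨a0, a1, a2, a3, a4, a5, a6, a7, a8, a9, a10, a11, a12, a13, a14, a15, a16, a17, a18, a19, a20, a21, a22, a23, a24, a25, a26, a27, a28, a29, a30, a31, a32, a33, a34, a35, a36, a37, a38, a39, a40⟩ =>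
    a21 == 0 && (a3 == 0 && (a10 == 0 && (a16 == 0 && (a22 == 0 && (a23 == 0 && (a24 == 0 && (a25 == 0)))))))
  | 4, ⟨a0, a1, a2, a3, a4, a5, a6, a7, a8, a9, a10, a11, a12, a13, a14, a15, a16, a17, a18, a19, a20, a21, a22, a23, a24, a25, a26, a27, a28, a29, a30, a31, a32, a33, a34, a35, a36, a37, a38, a39, a40⟩ =>
    a26 == 0 && (a4 == 0 && (a11 == 0 && (a17 == 0 && (a22 == 0 && (a27 == 0 && (a28 == 0 && (a29 == 0)))))))
  | 5, ⟨a0, a1, a2, a3, a4, a5, a6, a7, a8, a9, a10, a11, a12, a13, a14, a15, a16, a17, a18, a19, a20, a21, a22, a23, a24, a25, a26, a27, a28, a29, a30, a31, a32, a33, a34, a35, a36, a37, a38, a39, a40⟩ =>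
    a30 == 0 && (a5 == 0 && (a12 == 0 && (a18 == 0 && (a23 == 0 && (a27 == 0 && (a31 == 0 && (a32 == 0)))))))
  | 6, ⟨a0, a1, a2, a3, a4, a5, a6, a7, a8, a9, a10, a11, a12, a13, a14, a15, a16, a17, a18, a19, a20, a21, a22, a23, a24, a25, a26, a27, a28, a29, a30, a31, a32, a33, a34, a35, a36, a37, a38, a39, a40⟩ =>
    a33 == 0 && (a6 == 0 && (a13 == 0 && (a19 == 0 && (a24 == 0 && (a28 == 0 && (a31 == 0 && (a34 == 0)))))))
  | 7, ⟨a0, a1, a2, a3, a4, a5, a6, a7, a8, a9, a10, a11, a12, a13, a14, a15, a16, a17, a18, a19, a20, a21, a22, a23, a24, a25, a26, a27, a28, a29, a30, a31, a32, a33, a34, a35, a36, a37, a38, a39, a40⟩ =>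
    a35 == 0 && (a7 == 0 && (a14 == 0 && (a20 == 0 && (a25 == 0 && (a29 == 0 && (a32 == 0 && (a34 == 0)))))))
  | 8, ⟨a0, a1, a2, a3, a4, a5, a6, a7, a8, a9, a10, a11, a12, a13, a14, a15, a16, a17, a18, a19, a20, a21, a22, a23, a24, a25, a26, a27, a28, a29, a30, a31, a32, a33, a34, a35, a36, a37, a38, a39, a40⟩ => a36 == 0
  | 9, ⟨a0, a1, a2, a3, a4, a5, a6, a7, a8, a9, a10, a11, a12, a13, a14, a15, a16, a17, a18, a19, a20, a21, a22, a23, a24, a25, a26, a27, a28, a29, a30, a31, a32, a33, a34, a35, a36, a37, a38, a39, a40⟩ => a37 == 0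
  | 10, ⟨a0, a1, a2, a3, a4, a5, a6, a7, a8, a9, a10, a11, a12, a13, a14, a15, a16, a17, a18, a19, a20, a21, a22, a23, a24, a25, a26, a27, a28, a29, a30, a31, a32, a33, a34, a35, a36, a37, a38, a39, a40⟩ => a38 == 0
  | 11, ⟨a0, a1, a2, a3, a4, a5, a6, a7, a8, a9, a10, a11, a12, a13, a14, a15, a16, a17, a18, a19, a20, a21, a22, a23, a24, a25, a26, a27, a28, a29, a30, a31, a32, a33, a34, a35, a36, a37, a38, a39, a40⟩ => a39 == 0
  | 12, ⟨a0, a1, a2, a3, a4, a5, a6, a7, a8, a9, a10, a11, a12, a13, a14, a15, a16, a17, a18, a19, a20, a21, a22, a23, a24, a25, a26, a27, a28, a29, a30, a31, a32, a33, a34, a35, a36, a37, a38, a39, a40⟩ => a40 == 0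
  | _, _ => true

/-- everything is zero -/
def allz : St → Bool
  | ⟨a0, a1, a2, a3, a4, a5, a6, a7, a8, a9, a10, a11, a12, a13, a14, a15, a16, a17, a18, a19, a20, a21, a22, a23, a24, a25, a26, a27, a28, a29, a30, a31, a32, a33, a34, a35, a36, a37, a38, a39, a40⟩ =>
    a0 == 0 && (a1 == 0 && (a2 == 0 && (a3 == 0 && (a4 == 0 && (a5 == 0 && (a6 == 0 && (a7 == 0 && (a8 == 0 && (a9 == 0 && (a10 == 0 && (a11 == 0 && (a12 == 0 && (a13 == 0 && (a14 == 0 && (a15 == 0 && (a16 == 0 && (a17 == 0 && (a18 == 0 && (a19 == 0 && (a20 == 0 && (a21 == 0 && (a22 == 0 && (a23 == 0 && (a24 == 0 && (a25 == 0 && (a26 == 0 && (a27 == 0 && (a28 == 0 && (a29 == 0 && (a30 == 0 && (a31 == 0 && (a32 == 0 && (a33 == 0 && (a34 == 0 && (a35 == 0 && (a36 == 0 && (a37 == 0 && (a38 == 0 && (a39 == 0 && (a40 == 0))))))))))))))))))))))))))))))))))))))))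

/-- the state of one row -/
def ofV (v : Fin 8 → ℤ) : St :=
  ⟨v 0 * v 0, v 0 * v 1, v 0 * v 2, v 0 * v 3, v 0 * v 4, v 0 * v 5, v 0 * v 6, v 0 * v 7, v 1 * v 1, v 1 * v 2, v 1 * v 3, v 1 * v 4, v 1 * v 5, v 1 * v 6, v 1 * v 7, v 2 * v 2, v 2 * v 3, v 2 * v 4, v 2 * v 5, v 2 * v 6, v 2 * v 7, v 3 * v 3, v 3 * v 4, v 3 * v 5, v 3 * v 6, v 3 * v 7, v 4 * v 4, v 4 * v 5, v 4 * v 6, v 4 * v 7, v 5 * v 5, v 5 * v 6, v 5 * v 7, v 6 * v 6, v 6 * v 7, v 7 * v 7, ind (v 0 == 1), ind (v 0 % 17 == 1 || v 0 % 17 == 16), ind (v 0 % 17 == 8 || v 0 % 17 == 9), ind (v 0 % 19 == 1 || v 0 % 19 == 18), ind (v 0 % 19 == 9 || v 0 % 19 == 10)⟩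

/-- equality test -/
def eqSt : St → St → Bool
  | ⟨a0, a1, a2, a3, a4, a5, a6, a7, a8, a9, a10, a11, a12, a13, a14, a15, a16, a17, a18, a19, a20, a21, a22, a23, a24, a25, a26, a27, a28, a29, a30, a31, a32, a33, a34, a35, a36, a37, a38, a39, a40⟩, ⟨b0, b1, b2, b3, b4, b5, b6, b7, b8, b9, b10, b11, b12, b13, b14, b15, b16, b17, b18, b19, b20, b21, b22, b23, b24, b25, b26, b27, b28, b29, b30, b31, b32, b33, b34, b35, b36, b37, b38, b39, b40⟩ =>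
    a0 == b0 && (a1 == b1 && (a2 == b2 && (a3 == b3 && (a4 == b4 && (a5 == b5 && (a6 == b6 && (a7 == b7 && (a8 == b8 && (a9 == b9 && (a10 == b10 && (a11 == b11 && (a12 == b12 && (a13 == b13 && (a14 == b14 && (a15 == b15 && (a16 == b16 && (a17 == b17 && (a18 == b18 && (a19 == b19 && (a20 == b20 && (a21 == b21 && (a22 == b22 && (a23 == b23 && (a24 == b24 && (a25 == b25 && (a26 == b26 && (a27 == b27 && (a28 == b28 && (a29 == b29 && (a30 == b30 && (a31 == b31 && (a32 == b32 && (a33 == b33 && (a34 == b34 && (a35 == b35 && (a36 == b36 && (a37 == b37 && (a38 == b38 && (a39 == b39 && (a40 == b40))))))))))))))))))))))))))))))))))))))))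

theorem eq_of_eqSt {s t : St} (h : eqSt s t = true) : s = t := by
  cases s; cases t
  simp only [eqSt, Bool.and_eq_true, beq_iff_eq] at h
  simp only [St.mk.injEq]
  exact h

/-- the steps of the search -/
inductive Op where
  | row (l : List ℤ) (f : St)
  | zero (a : ℕ)

/-- the rows of a list of steps -/
def rowsOf : List Op → List (List ℤ)
  | [] => []
  | .row l _ :: W => l :: rowsOf W
  | .zero _ :: W => rowsOf W

/-- well formed -/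
def wf : List Op → Bool
  | [] => true
  | .row l f :: W => eqSt f (ofV (fn l)) && wf W
  | .zero a :: W => ((rowsOf W).all fun l => colz a (ofV (fn l))) && wf W

/-- copies of one row -/
def loop (k : St → List (List ℤ) → Bool) (l : List ℤ) (f : St) : ℕ → St → List (List ℤ) → Bool
  | 0, _, _ => false
  | n + 1, T, acc => k T acc && (dead (T.sub f) || loop k l f n (T.sub f) (l :: acc))

/-- the search -/
def srch (sol : List (List ℤ)) : List Op → St → List (List ℤ) → Bool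
  | [], T, acc => !allz T || acc == sol
  | .row l f :: W, T, acc => loop (srch sol W) l f 60 T acc
  | .zero a :: W, T, acc => !colz a T || srch sol W T acc

section sound

variable {ι : Type*} (V : ι → Fin 8 → ℤ)

/-- the state of a set of rows -/
def sumSt (s : Finset ι) : St :=
  ⟨∑ χ ∈ s, V χ 0 * V χ 0,
    ∑ χ ∈ s, V χ 0 * V χ 1,
    ∑ χ ∈ s, V χ 0 * V χ 2,
    ∑ χ ∈ s, V χ 0 * V χ 3,
    ∑ χ ∈ s, V χ 0 * V χ 4,
    ∑ χ ∈ s, V χ 0 * V χ 5,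
    ∑ χ ∈ s, V χ 0 * V χ 6,
    ∑ χ ∈ s, V χ 0 * V χ 7,
    ∑ χ ∈ s, V χ 1 * V χ 1,
    ∑ χ ∈ s, V χ 1 * V χ 2,
    ∑ χ ∈ s, V χ 1 * V χ 3,
    ∑ χ ∈ s, V χ 1 * V χ 4,
    ∑ χ ∈ s, V χ 1 * V χ 5,
    ∑ χ ∈ s, V χ 1 * V χ 6,
    ∑ χ ∈ s, V χ 1 * V χ 7,
    ∑ χ ∈ s, V χ 2 * V χ 2,
    ∑ χ ∈ s, V χ 2 * V χ 3,
    ∑ χ ∈ s, V χ 2 * V χ 4,
    ∑ χ ∈ s, V χ 2 * V χ 5,
    ∑ χ ∈ s, V χ 2 * V χ 6,
    ∑ χ ∈ s, V χ 2 * V χ 7,
    ∑ χ ∈ s, V χ 3 * V χ 3,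
    ∑ χ ∈ s, V χ 3 * V χ 4,
    ∑ χ ∈ s, V χ 3 * V χ 5,
    ∑ χ ∈ s, V χ 3 * V χ 6,
    ∑ χ ∈ s, V χ 3 * V χ 7,
    ∑ χ ∈ s, V χ 4 * V χ 4,
    ∑ χ ∈ s, V χ 4 * V χ 5,
    ∑ χ ∈ s, V χ 4 * V χ 6,
    ∑ χ ∈ s, V χ 4 * V χ 7,
    ∑ χ ∈ s, V χ 5 * V χ 5,
    ∑ χ ∈ s, V χ 5 * V χ 6,
    ∑ χ ∈ s, V χ 5 * V χ 7,
    ∑ χ ∈ s, V χ 6 * V χ 6,
    ∑ χ ∈ s, V χ 6 * V χ 7,
    ∑ χ ∈ s, V χ 7 * V χ 7,
    ∑ χ ∈ s, ind (V χ 0 == 1),
    ∑ χ ∈ s, ind (V χ 0 % 17 == 1 || V χ 0 % 17 == 16),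
    ∑ χ ∈ s, ind (V χ 0 % 17 == 8 || V χ 0 % 17 == 9),
    ∑ χ ∈ s, ind (V χ 0 % 19 == 1 || V χ 0 % 19 == 18),
    ∑ χ ∈ s, ind (V χ 0 % 19 == 9 || V χ 0 % 19 == 10)⟩

theorem sub_eq [DecidableEq ι] {s : Finset ι} {χ : ι} (hχ : χ ∈ s) {v : Fin 8 → ℤ} (hv : V χ = v) :
    (sumSt V s).sub (ofV v) = sumSt V (s.erase χ) := by
  subst hv
  simp only [St.sub, sumSt, ofV, St.mk.injEq]
  refine ⟨?_, ?_, ?_, ?_, ?_, ?_, ?_, ?_, ?_, ?_, ?_, ?_, ?_, ?_, ?_, ?_, ?_, ?_, ?_, ?_, ?_, ?_, ?_, ?_, ?_, ?_, ?_, ?_, ?_, ?_, ?_, ?_, ?_, ?_, ?_, ?_, ?_, ?_, ?_, ?_, ?_⟩ <;>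
    exact (Finset.sum_erase_eq_sub hχ).symm

theorem ind_nonneg (b : Bool) : 0 ≤ ind b := by
  cases b <;> decide

theorem sq_sum (s : Finset ι) (a : Fin 8) : nn (∑ χ ∈ s, V χ a * V χ a) = true :=
  nn_of (Finset.sum_nonneg fun χ _ => mul_self_nonneg _)

theorem cs_sum (s : Finset ι) (a b : Fin 8) :
    nn ((∑ χ ∈ s, V χ a * V χ a) * (∑ χ ∈ s, V χ b * V χ b) - (∑ χ ∈ s, V χ a * V χ b) * (∑ χ ∈ s, V χ a * V χ b)) =
      true := by
  apply nn_of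
  have h := Finset.sum_mul_sq_le_sq_mul_sq s (fun χ => V χ a) (fun χ => V χ b)
  simp only [pow_two] at h
  linarith

theorem cs_sum' (s : Finset ι) (a b : Fin 8) :
    nn ((∑ χ ∈ s, V χ a * V χ a) * (∑ χ ∈ s, V χ b * V χ b) - (∑ χ ∈ s, V χ b * V χ a) * (∑ χ ∈ s, V χ b * V χ a)) =
      true := by
  have h := cs_sum V s a b
  have h1 : ∑ χ ∈ s, V χ b * V χ a = ∑ χ ∈ s, V χ a * V χ b := Finset.sum_congr rfl fun χ _ => mul_comm _ _
  rw [h1]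
  exact h

theorem dead_sum (s : Finset ι) : dead (sumSt V s) = false := by
  simp only [dead, sumSt, Bool.not_eq_false', Bool.and_eq_true]
  refine ⟨?_, ?_, ?_, ?_, ?_, ?_, ?_, ?_, ?_, ?_, ?_, ?_, ?_, ?_, ?_, ?_, ?_, ?_, ?_, ?_, ?_, ?_, ?_, ?_, ?_⟩
  · exact sq_sum V s 0
  · exact sq_sum V s 1
  · exact sq_sum V s 2
  · exact sq_sum V s 3
  · exact sq_sum V s 4
  · exact sq_sum V s 5
  · exact sq_sum V s 6
  · exact sq_sum V s 7
  · exact nn_of (Finset.sum_nonneg fun χ _ => ind_nonneg _)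
  · exact nn_of (Finset.sum_nonneg fun χ _ => ind_nonneg _)
  · exact nn_of (Finset.sum_nonneg fun χ _ => ind_nonneg _)
  · exact nn_of (Finset.sum_nonneg fun χ _ => ind_nonneg _)
  · exact nn_of (Finset.sum_nonneg fun χ _ => ind_nonneg _)
  · exact cs_sum' V s 6 5
  · exact cs_sum' V s 7 2
  · exact cs_sum' V s 4 2
  · exact cs_sum' V s 6 1
  · exact cs_sum' V s 5 2
  · exact cs_sum' V s 5 3
  · exact cs_sum' V s 7 3
  · exact cs_sum' V s 6 2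
  · exact cs_sum' V s 7 4
  · exact cs_sum' V s 6 3
  · exact cs_sum' V s 7 5
  · exact cs_sum' V s 7 1

theorem colz_sum {a : ℕ} {s : Finset ι} (h : ∀ χ ∈ s, colz a (ofV (V χ)) = true) : colz a (sumSt V s) = true := by
  match a with
  | 0 =>
    simp only [colz, sumSt, ofV, Bool.and_eq_true, beq_iff_eq] at h ⊢
    exact ⟨Finset.sum_eq_zero fun χ hχ => (h χ hχ).1, Finset.sum_eq_zero fun χ hχ => (h χ hχ).2.1, Finset.sum_eq_zero fun χ hχ => (h χ hχ).2.2.1, Finset.sum_eq_zero fun χ hχ => (h χ hχ).2.2.2.1, Finset.sum_eq_zero fun χ hχ => (h χ hχ).2.2.2.2.1, Finset.sum_eq_zero fun χ hχ => (h χ hχ).2.2.2.2.2.1, Finset.sum_eq_zero fun χ hχ => (h χ hχ).2.2.2.2.2.2.1, Finset.sum_eq_zero fun χ hχ => (h χ hχ).2.2.2.2.2.2.2⟩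
  | 1 =>
    simp only [colz, sumSt, ofV, Bool.and_eq_true, beq_iff_eq] at h ⊢
    exact ⟨Finset.sum_eq_zero fun χ hχ => (h χ hχ).1, Finset.sum_eq_zero fun χ hχ => (h χ hχ).2.1, Finset.sum_eq_zero fun χ hχ => (h χ hχ).2.2.1, Finset.sum_eq_zero fun χ hχ => (h χ hχ).2.2.2.1, Finset.sum_eq_zero fun χ hχ => (h χ hχ).2.2.2.2.1, Finset.sum_eq_zero fun χ hχ => (h χ hχ).2.2.2.2.2.1, Finset.sum_eq_zero fun χ hχ => (h χ hχ).2.2.2.2.2.2.1, Finset.sum_eq_zero fun χ hχ => (h χ hχ).2.2.2.2.2.2.2⟩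
  | 2 =>
    simp only [colz, sumSt, ofV, Bool.and_eq_true, beq_iff_eq] at h ⊢
    exact ⟨Finset.sum_eq_zero fun χ hχ => (h χ hχ).1, Finset.sum_eq_zero fun χ hχ => (h χ hχ).2.1, Finset.sum_eq_zero fun χ hχ => (h χ hχ).2.2.1, Finset.sum_eq_zero fun χ hχ => (h χ hχ).2.2.2.1, Finset.sum_eq_zero fun χ hχ => (h χ hχ).2.2.2.2.1, Finset.sum_eq_zero fun χ hχ => (h χ hχ).2.2.2.2.2.1, Finset.sum_eq_zero fun χ hχ => (h χ hχ).2.2.2.2.2.2.1, Finset.sum_eq_zero fun χ hχ => (h χ hχ).2.2.2.2.2.2.2⟩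
  | 3 =>
    simp only [colz, sumSt, ofV, Bool.and_eq_true, beq_iff_eq] at h ⊢
    exact ⟨Finset.sum_eq_zero fun χ hχ => (h χ hχ).1, Finset.sum_eq_zero fun χ hχ => (h χ hχ).2.1, Finset.sum_eq_zero fun χ hχ => (h χ hχ).2.2.1, Finset.sum_eq_zero fun χ hχ => (h χ hχ).2.2.2.1, Finset.sum_eq_zero fun χ hχ => (h χ hχ).2.2.2.2.1, Finset.sum_eq_zero fun χ hχ => (h χ hχ).2.2.2.2.2.1, Finset.sum_eq_zero fun χ hχ => (h χ hχ).2.2.2.2.2.2.1, Finset.sum_eq_zero fun χ hχ => (h χ hχ).2.2.2.2.2.2.2⟩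
  | 4 =>
    simp only [colz, sumSt, ofV, Bool.and_eq_true, beq_iff_eq] at h ⊢
    exact ⟨Finset.sum_eq_zero fun χ hχ => (h χ hχ).1, Finset.sum_eq_zero fun χ hχ => (h χ hχ).2.1, Finset.sum_eq_zero fun χ hχ => (h χ hχ).2.2.1, Finset.sum_eq_zero fun χ hχ => (h χ hχ).2.2.2.1, Finset.sum_eq_zero fun χ hχ => (h χ hχ).2.2.2.2.1, Finset.sum_eq_zero fun χ hχ => (h χ hχ).2.2.2.2.2.1, Finset.sum_eq_zero fun χ hχ => (h χ hχ).2.2.2.2.2.2.1, Finset.sum_eq_zero fun χ hχ => (h χ hχ).2.2.2.2.2.2.2⟩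
  | 5 =>
    simp only [colz, sumSt, ofV, Bool.and_eq_true, beq_iff_eq] at h ⊢
    exact ⟨Finset.sum_eq_zero fun χ hχ => (h χ hχ).1, Finset.sum_eq_zero fun χ hχ => (h χ hχ).2.1, Finset.sum_eq_zero fun χ hχ => (h χ hχ).2.2.1, Finset.sum_eq_zero fun χ hχ => (h χ hχ).2.2.2.1, Finset.sum_eq_zero fun χ hχ => (h χ hχ).2.2.2.2.1, Finset.sum_eq_zero fun χ hχ => (h χ hχ).2.2.2.2.2.1, Finset.sum_eq_zero fun χ hχ => (h χ hχ).2.2.2.2.2.2.1, Finset.sum_eq_zero fun χ hχ => (h χ hχ).2.2.2.2.2.2.2⟩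
  | 6 =>
    simp only [colz, sumSt, ofV, Bool.and_eq_true, beq_iff_eq] at h ⊢
    exact ⟨Finset.sum_eq_zero fun χ hχ => (h χ hχ).1, Finset.sum_eq_zero fun χ hχ => (h χ hχ).2.1, Finset.sum_eq_zero fun χ hχ => (h χ hχ).2.2.1, Finset.sum_eq_zero fun χ hχ => (h χ hχ).2.2.2.1, Finset.sum_eq_zero fun χ hχ => (h χ hχ).2.2.2.2.1, Finset.sum_eq_zero fun χ hχ => (h χ hχ).2.2.2.2.2.1, Finset.sum_eq_zero fun χ hχ => (h χ hχ).2.2.2.2.2.2.1, Finset.sum_eq_zero fun χ hχ => (h χ hχ).2.2.2.2.2.2.2⟩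
  | 7 =>
    simp only [colz, sumSt, ofV, Bool.and_eq_true, beq_iff_eq] at h ⊢
    exact ⟨Finset.sum_eq_zero fun χ hχ => (h χ hχ).1, Finset.sum_eq_zero fun χ hχ => (h χ hχ).2.1, Finset.sum_eq_zero fun χ hχ => (h χ hχ).2.2.1, Finset.sum_eq_zero fun χ hχ => (h χ hχ).2.2.2.1, Finset.sum_eq_zero fun χ hχ => (h χ hχ).2.2.2.2.1, Finset.sum_eq_zero fun χ hχ => (h χ hχ).2.2.2.2.2.1, Finset.sum_eq_zero fun χ hχ => (h χ hχ).2.2.2.2.2.2.1, Finset.sum_eq_zero fun χ hχ => (h χ hχ).2.2.2.2.2.2.2⟩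
  | 8 =>
    simp only [colz, sumSt, ofV, beq_iff_eq] at h ⊢
    exact Finset.sum_eq_zero fun χ hχ => h χ hχ
  | 9 =>
    simp only [colz, sumSt, ofV, beq_iff_eq] at h ⊢
    exact Finset.sum_eq_zero fun χ hχ => h χ hχ
  | 10 =>
    simp only [colz, sumSt, ofV, beq_iff_eq] at h ⊢
    exact Finset.sum_eq_zero fun χ hχ => h χ hχ
  | 11 =>
    simp only [colz, sumSt, ofV, beq_iff_eq] at h ⊢
    exact Finset.sum_eq_zero fun χ hχ => h χ hχ
  | 12 =>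
    simp only [colz, sumSt, ofV, beq_iff_eq] at h ⊢
    exact Finset.sum_eq_zero fun χ hχ => h χ hχ
  | n + 13 => simp [colz]

theorem eq_of_empty {s : Finset ι} (h : s = ∅) : allz (sumSt V s) = true := by
  subst h
  simp [allz, sumSt]

theorem loop_sound [DecidableEq ι] {k : St → List (List ℤ) → Bool} {l : List ℤ} {f : St} (hf : f = ofV (fn l))
    {sol : List (List ℤ)} {R : List (List ℤ)}
    (hk : ∀ (s : Finset ι) (acc : List (List ℤ)), (∀ χ ∈ s, ∃ l' ∈ R, V χ = fn l') → k (sumSt V s) acc = true →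
      s.val.map V + ((acc.map fn : List (Fin 8 → ℤ)) : Multiset (Fin 8 → ℤ)) = ((sol.map fn : List (Fin 8 → ℤ)) : Multiset _)) :
    ∀ (n : ℕ) (s : Finset ι) (acc : List (List ℤ)), (∀ χ ∈ s, V χ = fn l ∨ ∃ l' ∈ R, V χ = fn l') →
      loop k l f n (sumSt V s) acc = true →
      s.val.map V + ((acc.map fn : List (Fin 8 → ℤ)) : Multiset (Fin 8 → ℤ)) = ((sol.map fn : List (Fin 8 → ℤ)) : Multiset _) := by
  intro n
  induction n with
  | zero => intro s acc _ h; exact absurd h (by simp [loop])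
  | succ n ih =>
    intro s acc hs h
    simp only [loop, Bool.and_eq_true, Bool.or_eq_true] at h
    obtain ⟨h1, h2⟩ := h
    by_cases hex : ∃ χ ∈ s, V χ = fn l
    · obtain ⟨χ, hχ, hv⟩ := hex
      rw [hf, sub_eq V hχ hv] at h2
      rcases h2 with h2 | h2
      · rw [dead_sum] at h2
        exact absurd h2 (by decide)
      · rw [← hf] at h2
        have h3 := ih (s.erase χ) (l :: acc) (fun χ' h => hs χ' (Finset.mem_of_mem_erase h)) h2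
        rw [← h3, List.map_cons, ← Multiset.cons_coe, Multiset.add_cons, ← Multiset.cons_add, ← hv,
          ← Multiset.map_cons V]
        congr 2
        rw [Finset.erase_val]
        exact (Multiset.cons_erase hχ).symm
    · refine hk s acc (fun χ hχ => ?_) h1
      rcases hs χ hχ with h3 | h3
      · exact absurd ⟨χ, hχ, h3⟩ hex
      · exact h3

theorem srch_sound [DecidableEq ι] {sol : List (List ℤ)} : ∀ (ops : List Op), wf ops = true → ∀ (s : Finset ι)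
    (acc : List (List ℤ)), (∀ χ ∈ s, ∃ l ∈ rowsOf ops, V χ = fn l) → srch sol ops (sumSt V s) acc = true →
      s.val.map V + ((acc.map fn : List (Fin 8 → ℤ)) : Multiset (Fin 8 → ℤ)) = ((sol.map fn : List (Fin 8 → ℤ)) : Multiset _)
  | [], _, s, acc, hs, h => by
    have h0 : s = ∅ := by
      rw [Finset.eq_empty_iff_forall_notMem]
      intro χ hχ
      obtain ⟨l, hl, -⟩ := hs χ hχ
      exact absurd hl (by simp [rowsOf])
    simp only [srch, Bool.or_eq_true, eq_of_empty V h0, Bool.not_true, Bool.false_eq_true, false_or, beq_iff_eq] at h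
    rw [h0, h]
    simp
  | .row l f :: W, hw, s, acc, hs, h => by
    simp only [wf, Bool.and_eq_true] at hw
    refine loop_sound V (eq_of_eqSt hw.1) (k := srch sol W) (R := rowsOf W)
      (fun s acc hs h => srch_sound W hw.2 s acc hs h) 60 s acc (fun χ hχ => ?_) h
    obtain ⟨l', hl', hv⟩ := hs χ hχ
    rw [rowsOf, List.mem_cons] at hl'
    rcases hl' with rfl | hl'
    · exact Or.inl hv
    · exact Or.inr ⟨l', hl', hv⟩
  | .zero a :: W, hw, s, acc, hs, h => by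
    simp only [wf, Bool.and_eq_true, List.all_eq_true] at hw
    have hs' : ∀ χ ∈ s, ∃ l ∈ rowsOf W, V χ = fn l := hs
    have h1 : colz a (sumSt V s) = true := colz_sum V fun χ hχ => by
      obtain ⟨l, hl, hv⟩ := hs' χ hχ
      rw [hv]
      exact hw.1 l hl
    simp only [srch, h1, Bool.not_true, Bool.false_or] at h
    exact srch_sound W hw.2 s acc hs' h

end sound

end Cfsg.Agent.H306.SD.J
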